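import Cfsg.Agent.Lib.Perm7.OddFam
import Cfsg.Agent.Lib.Perm7.Simple
import Cfsg.Agent.Lib.CharDeep.Half.Top

/-!
# The case `|E|` odd: the end of the proof
-/

set_option autoImplicit false
set_option linter.unusedSectionVars false
set_option linter.style.haveILetI false

namespace Cfsg.Agent.Lib.Perm7.Core

open scoped BigOperators ComplexConjugate
open Cfsg Module Cfsg.Agent.Lib.Char.Induced Cfsg.Agent.Lib.Char.Ortho Cfsg.Agent.Lib.Char.Linear
open Cfsg.Agent.Lib.Char.Basic Cfsg.Agent.Lib.Char.GenLattice Cfsg.Agent.Lib.Char.Complete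
open Cfsg.Agent.Lib.Char.IndRep Cfsg.Agent.Lib.Perm7.Exc Cfsg.Agent.Lib.Perm7.Label
open Cfsg.Agent.Lib.Perm7.Frob Cfsg.Agent.Lib.Perm7.Integ
open Cfsg.Agent.Lib.CharDeep.BrauerDeg
open Cfsg.Agent.Lib.ExcP.Gram Cfsg.Agent.Lib.ExcP.Inst
open Cfsg.Agent.Lib.ModRep.ThGram
open Cfsg.Agent.Lib.Char.Degree

universe u

variable {G : Type u} [Group G] [Fintype G] {p : ℕ} [hp : Fact p.Prime] {P E : Subgroup G} 
  {u : G} {χp : G → ℂ} (S : Sys p P E u χp)
include S

theorem Sys.ker_of_P {ξ : G → ℂ} (hξ : IsCharacter G ξ) (h : ∀ x ∈ P, ξ x = ξ 1) (g : G) : ξ g = ξ 1 := by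
  have h1 := S.normal_top (K := charKer hξ) inferInstance (fun x hx => h x hx)
  have h2 : g ∈ charKer hξ := by rw [h1]; trivial
  exact h2

/-- The final statement of the odd case. -/
theorem Sys.odd_final (hodd : Odd (Nat.card E)) (hu2 : u * u = 1)
    (hN : ∀ K : Subgroup G, K.Normal → K ≠ ⊥ → p ∣ Nat.card K) :
    Nonempty (G ≃* Matrix.ProjectiveSpecialLinearGroup (Fin 2) (ZMod p)) := by
  classical
  letI : Fintype P := Fintype.ofFinite _
  letI : Fintype E := Fintype.ofFinite _
  letI : Fintype (Cn P) := Fintype.ofFinite _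
  letI : Fintype (Nn P) := Fintype.ofFinite _
  haveI := finite_irrCharacter (G := G)
  letI := Fintype.ofFinite (IrrCharacter G)
  haveI := finite_irrCharacter (G := Cn P)
  letI := Fintype.ofFinite (IrrCharacter (Cn P))
  haveI := finite_DD (p := p) (P := P) S.hPc S.hp2
  letI : Fintype (DD P p) := Fintype.ofFinite _
  have hpp : p.Prime := hp.out
  obtain ⟨M, hM⟩ := Cfsg.Agent.Lib.BlockH.Basic.exists_isPModular hpp
  obtain ⟨F⟩ := exists_fam hM S.hPc S.hp2 (trv (Cn P)) trv_ker
  have hne : Nonempty (DD P p) := by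
    apply Nat.card_pos_iff.mp ?_ |>.1
    rw [card_DD S.hPc S.hp2]
    have := hpp.two_le
    omega
  obtain ⟨d⟩ := hne
  obtain ⟨hdeg, ha, hε⟩ := S.odd_nu hodd hu2 F d
  have hPF : PF P (F.ν d : G → ℂ) := by
    intro θ₁ hθ₁
    -- `θ₁` is trivial
    have h1 : θ₁ = trv (Cn P) := by
      have h0 : ∀ c, (θ₁ : Cn P → ℂ) c = (θ₁ : Cn P → ℂ) 1 := fun c => hθ₁ c (S.mem_P_of_Cn c)
      have h2 := classInner_self_of_isIrr θ₁.2
      have h3 := charDegree_natCast (isCharacter_of_isIrrCharacter θ₁.2)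
      rw [classInner_def] at h2
      simp only [h0, Finset.sum_const, Finset.card_univ, ← Nat.card_eq_fintype_card, nsmul_eq_mul] at h2
      have hC : (Nat.card (Cn P) : ℂ) ≠ 0 := Nat.cast_ne_zero.mpr Nat.card_pos.ne'
      rw [inv_mul_cancel_left₀ hC, ← h3, Complex.conj_natCast] at h2
      have h4 : charDegree (θ₁ : Cn P → ℂ) * charDegree (θ₁ : Cn P → ℂ) = 1 := by exact_mod_cast h2
      have h5 : charDegree (θ₁ : Cn P → ℂ) = 1 := Nat.eq_one_of_mul_eq_one_left h4
      rw [h5] at h3
      apply Subtype.ext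
      funext c
      rw [h0 c, ← h3]
      simp
    rw [h1]
    exact ha
  have hker : ∀ ξ : IrrCharacter G, (∀ x ∈ P, (ξ : G → ℂ) x = (ξ : G → ℂ) 1) → ∀ g, (ξ : G → ℂ) g = (ξ : G → ℂ) 1 :=
    fun ξ h g => S.ker_of_P (isCharacter_of_isIrrCharacter ξ.2) h g
  have he := S.fam_e F d
  have hYe := F.hYe
  have hcount := princ_count hM S.hPc S.hp2 F d hPF hker S.card_Nn
  have he1 : Nat.card E ≠ 1 := fun h => S.hE1 (Subgroup.card_eq_one.mp h)
  rw [he] at hYe
  generalize F.Y.card = y at hYe
  have h2e : 2 * Nat.card E + 1 = p := by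
    rcases hcount with h | h
    · exact absurd h he1
    · obtain ⟨l, hl⟩ := hodd
      rcases hpp.eq_two_or_odd' with h2 | ⟨k, hk⟩
      · rw [h2] at hYe
        have h3 := Nat.eq_one_of_mul_eq_one_left hYe
        exact absurd h3 he1
      · have hY0 : y ≠ 0 := by
          intro h0
          rw [h0] at hYe
          have := hpp.two_le
          omega
        have hY1 : y ≠ 1 := by
          intro h0
          rw [h0] at hYe
          omega
        have hY2 : 2 ≤ y := by omega
        have hY3 : y ≤ 2 := by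
          by_contra hlt
          have h4 : 3 * Nat.card E ≤ y * Nat.card E := Nat.mul_le_mul_right _ (by omega)
          have h5 : 0 < Nat.card E := Nat.card_pos
          omega
        have hY4 : y = 2 := by omega
        rw [hY4] at hYe
        omega
  have hfaith : ∀ g : G, (F.ν d : G → ℂ) g = (F.ν d : G → ℂ) 1 → g = 1 := by
    intro g hg
    have hνc := isCharacter_of_isIrrCharacter (F.ν d).2
    rcases S.simple hN (K := charKer hνc) inferInstance with h | h
    · have h1 : g ∈ charKer hνc := hg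
      rwa [h, Subgroup.mem_bot] at h1
    · exfalso
      have h1 : ∀ c : Cn P, rs P (F.ν d : G → ℂ) c = (charDegree (F.ν d : G → ℂ) : ℂ) := by
        intro c
        have h2 : (c : G) ∈ charKer hνc := by rw [h]; trivial
        show (F.ν d : G → ℂ) c = _
        rw [h2, charDegree_natCast hνc]
      have h3 := nn_cast (isCharacter_of_isIrrCharacter (trv (Cn P)).2) (isChar_rs (P := P) hνc)
      rw [ha, classInner_def] at h3
      simp only [h1, trv_apply, one_mul, Finset.sum_const, Finset.card_univ, ← Nat.card_eq_fintype_card,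
        nsmul_eq_mul, Complex.conj_natCast] at h3
      have hC : (Nat.card (Cn P) : ℂ) ≠ 0 := Nat.cast_ne_zero.mpr Nat.card_pos.ne'
      rw [inv_mul_cancel_left₀ hC] at h3
      have h4 : charDegree (F.ν d : G → ℂ) = 0 := by exact_mod_cast h3.symm
      exact (charDegree_pos (F.ν d).2).ne' h4
  have hnn : ∀ H : Subgroup G, H.Normal → Nat.card H ≠ p := by
    intro H hH hc
    have h1 := S.le_of_dvd hH (by rw [hc])
    have h2 := S.normal_top hH h1
    rw [h2, Subgroup.card_top] at hc
    apply S.not_normal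
    have h3 : P = ⊤ := Subgroup.eq_top_of_card_eq P (by rw [S.hPc, hc])
    rw [h3]
    infer_instance
  obtain ⟨e⟩ := Cfsg.Agent.Lib.CharDeep.Half.main S.dvd_card S.hp2 hnn (isCharacter_of_isIrrCharacter (F.ν d).2) hfaith
    (by rw [hdeg]; exact h2e)
  have hZ := S.center_eq_bot hN
  exact ⟨((QuotientGroup.quotientBot (G := G)).symm.trans (QuotientGroup.quotientMulEquivOfEq hZ.symm)).trans e⟩

end Cfsg.Agent.Lib.Perm7.Core
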