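import Cfsg.Agent.Lib.Perm7.Even3
import Cfsg.Agent.Lib.Perm7.OddEnd
import Cfsg.Agent.S4701
import Cfsg.Agent.S0494
import Cfsg.Agent.Lib.Small.PSL2Rec
import Cfsg.Agent.Lib.Classical.SL2Sylow
import Cfsg.Agent.Lib.Classical.SL2.Tori

/-!
# The case `|E|` even: numerical lemmas and recognition of the group
-/

set_option autoImplicit false
set_option linter.unusedSectionVars false
set_option linter.style.haveILetI false

namespace Cfsg.Agent.Lib.Perm7.Core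

open Cfsg

universe u

theorem ratio_le {a : ℤ} {D : ℕ} (ha : a = 1 ∨ a = -1) (hD : 2 ≤ D) : (a : ℝ) / D ≤ 1 / 2 := by
  have hD' : (2 : ℝ) ≤ D := by exact_mod_cast hD
  rcases ha with rfl | rfl
  · rw [Int.cast_one]
    exact one_div_le_one_div_of_le (by norm_num) hD'
  · have h1 : (0 : ℝ) < D := by linarith
    have h2 : ((-1 : ℤ) : ℝ) / (D : ℝ) < 0 := by
      apply div_neg_of_neg_of_pos
      · norm_num
      · exact h1
    linarith

/-- The possible signs. -/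
theorem signs {p : ℕ} {a₁ a₂ : ℤ} {D₁ D₂ : ℕ} (ha₁ : a₁ = 1 ∨ a₁ = -1) (ha₂ : a₂ = 1 ∨ a₂ = -1) (hD₁ : 2 ≤ D₁)
    (hD₂ : 2 ≤ D₂) (hs : a₁ * D₁ + a₂ * D₂ = p + 1) :
    (a₁ = 1 ∧ a₂ = 1 ∧ D₁ + D₂ = p + 1) ∨ ((a₁ : ℝ) / D₁ + (a₂ : ℝ) / D₂ < 0) := by
  have hD₁' : (2 : ℝ) ≤ D₁ := by exact_mod_cast hD₁
  have hD₂' : (2 : ℝ) ≤ D₂ := by exact_mod_cast hD₂
  have hp0 : (0 : ℝ) ≤ p := Nat.cast_nonneg p
  rcases ha₁ with rfl | rfl <;> rcases ha₂ with rfl | rfl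
  · left
    refine ⟨rfl, rfl, ?_⟩
    omega
  · right
    have h1 : (D₁ : ℝ) - D₂ = p + 1 := by exact_mod_cast (by linarith : (D₁ : ℤ) - D₂ = p + 1)
    have h2 : ((1 : ℤ) : ℝ) / D₁ + ((-1 : ℤ) : ℝ) / D₂ = (D₂ - D₁) / (D₁ * D₂) := by
      push_cast
      field_simp
      ring
    rw [h2]
    apply div_neg_of_neg_of_pos
    · linarith
    · positivity
  · right
    have h1 : (D₂ : ℝ) - D₁ = p + 1 := by exact_mod_cast (by linarith : (D₂ : ℤ) - D₁ = p + 1)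
    have h2 : ((-1 : ℤ) : ℝ) / D₁ + ((1 : ℤ) : ℝ) / D₂ = (D₁ - D₂) / (D₁ * D₂) := by
      push_cast
      field_simp
      ring
    rw [h2]
    apply div_neg_of_neg_of_pos
    · linarith
    · positivity
  · exfalso
    omega

/-- The numerics in the case `|E| > 2`. -/
theorem num_big {n e t q : ℕ} (he : 0 < e)
    (h : (n : ℝ) * (1 + 1 / ((q + 1 : ℕ) : ℝ) - 4 / (((q + 1 : ℕ) : ℝ) + 1)) = 2 * e * e) (ht : t * e = q) :
    n * t ^ 2 = 2 * (q + 1) * (q + 2) := by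
  have hq : (q : ℝ) = t * e := by exact_mod_cast ht.symm
  have he' : (e : ℝ) ≠ 0 := by exact_mod_cast he.ne'
  have h1 : (n : ℝ) * (q * q) = 2 * e * e * ((q + 1) * (q + 2)) := by
    rw [← h]
    push_cast
    have h2 : (q : ℝ) + 1 ≠ 0 := by positivity
    have h3 : (q : ℝ) + 1 + 1 ≠ 0 := by positivity
    field_simp
    ring
  rw [hq] at h1
  have h2 : (n : ℝ) * t ^ 2 = 2 * (t * e + 1) * (t * e + 2) := by
    have h3 : (e : ℝ) * e ≠ 0 := mul_ne_zero he' he'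
    apply mul_right_cancel₀ h3
    linear_combination h1
  have h3 : ((n * t ^ 2 : ℕ) : ℝ) = ((2 * (q + 1) * (q + 2) : ℕ) : ℝ) := by
    push_cast
    rw [h2, hq]
  exact_mod_cast h3

/-- The order in the case `|E| > 2`. -/
theorem num_big_order {n e t q g : ℕ} (h : n * t ^ 2 = 2 * (q + 1) * (q + 2)) (ht : t * e = q) (hg : n * (2 * e) = g) :
    g * t ^ 3 = 4 * q * (q + 1) * (q + 2) := by
  subst hg
  calc n * (2 * e) * t ^ 3 = 2 * (n * t ^ 2) * (t * e) := by ring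
    _ = 4 * q * (q + 1) * (q + 2) := by rw [h, ht]; ring

theorem num_big_lt {n e t q g : ℕ} (h : n * t ^ 2 = 2 * (q + 1) * (q + 2)) (ht : t * e = q) (hg : n * (2 * e) = g)
    (ht2 : 2 ≤ t) : g < (q + 1) ^ 3 := by
  have h1 := num_big_order h ht hg
  have h2 : 2 ^ 3 ≤ t ^ 3 := Nat.pow_le_pow_left ht2 3
  have h3 : g * 8 ≤ 4 * q * (q + 1) * (q + 2) := by
    rw [← h1]
    exact Nat.mul_le_mul_left _ h2
  nlinarith [sq_nonneg q, Nat.zero_le q]

theorem num_big_sl {n e t q g : ℕ} (h : n * t ^ 2 = 2 * (q + 1) * (q + 2)) (ht : t * e = q) (hg : n * (2 * e) = g)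
    (ht2 : 2 ≤ t) (he : 3 ≤ e) (hq : 4 ≤ q) (hsl : g = q * ((q - 1) * (q + 1))) : False := by
  have h1 := num_big_order h ht hg
  obtain ⟨r, rfl⟩ : ∃ r, q = r + 1 := ⟨q - 1, by omega⟩
  simp only [Nat.add_sub_cancel] at hsl
  rw [hsl] at h1
  have h2 : r * t ^ 3 = 4 * (r + 1 + 2) := by
    have h3 : 0 < (r + 1) * (r + 1 + 1) := by positivity
    apply Nat.eq_of_mul_eq_mul_left h3
    linarith
  have h3 : 2 ^ 3 ≤ t ^ 3 := Nat.pow_le_pow_left ht2 3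
  have h4 : r * 8 ≤ 4 * (r + 1 + 2) := by
    rw [← h2]
    exact Nat.mul_le_mul_left _ h3
  have h5 : 6 ≤ t * e := Nat.mul_le_mul ht2 he
  omega

/-- The inequality in the case `|E| = 2`. -/
theorem num_small {n r : ℕ} {a₁ a₂ : ℤ} {D₁ D₂ : ℕ} (hr : 3 ≤ r) (ha₁ : a₁ = 1 ∨ a₁ = -1) (ha₂ : a₂ = 1 ∨ a₂ = -1)
    (hD₁ : 2 ≤ D₁) (hD₂ : 2 ≤ D₂) (hs : a₁ * D₁ + a₂ * D₂ = ((r + 2 : ℕ) : ℤ) + 1)
    (h : (n : ℝ) * (1 + 1 / ((r + 2 : ℕ) : ℝ) - ((a₁ : ℝ) / D₁ + (a₂ : ℝ) / D₂)) = 2 * (2 : ℕ) * (2 : ℕ)) :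
    n * r * (r + 3) ≤ 16 * (r + 2) * (r + 1) := by
  have hn : (0 : ℝ) ≤ n := Nat.cast_nonneg n
  have hr' : (3 : ℝ) ≤ r := by exact_mod_cast hr
  have hR : (a₁ : ℝ) / D₁ + (a₂ : ℝ) / D₂ ≤ (r + 3) / (2 * (r + 1)) := by
    rcases signs ha₁ ha₂ hD₁ hD₂ hs with ⟨rfl, rfl, h1⟩ | h1
    · have hD₁' : (2 : ℝ) ≤ D₁ := by exact_mod_cast hD₁
      have hD₂' : (2 : ℝ) ≤ D₂ := by exact_mod_cast hD₂
      have h2 : (D₁ : ℝ) + D₂ = r + 3 := by
        have h3 : D₁ + D₂ = r + 3 := h1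
        exact_mod_cast h3
      have h3 : 2 * ((r : ℝ) + 1) ≤ D₁ * D₂ := by
        nlinarith [mul_nonneg (sub_nonneg.mpr hD₁') (sub_nonneg.mpr hD₂')]
      have h4 : ((1 : ℤ) : ℝ) / D₁ + ((1 : ℤ) : ℝ) / D₂ = (r + 3) / (D₁ * D₂) := by
        push_cast
        rw [← h2]
        field_simp
        ring
      rw [h4]
      apply div_le_div_of_nonneg_left (by positivity) (by positivity) h3
    · have h2 : (0 : ℝ) ≤ (r + 3) / (2 * (r + 1)) := by positivity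
      linarith
  have h1 : (n : ℝ) * (((r : ℝ) * (r + 3)) / (2 * (r + 2) * (r + 1))) ≤ 8 := by
    have h2 : ((r : ℝ) * (r + 3)) / (2 * (r + 2) * (r + 1)) ≤
        1 + 1 / ((r + 2 : ℕ) : ℝ) - ((a₁ : ℝ) / D₁ + (a₂ : ℝ) / D₂) := by
      have h3 : ((r : ℝ) * (r + 3)) / (2 * (r + 2) * (r + 1)) =
          1 + 1 / ((r + 2 : ℕ) : ℝ) - (r + 3) / (2 * (r + 1)) := by
        push_cast
        field_simp
        ring
      rw [h3]
      linarith
    have h3 := mul_le_mul_of_nonneg_left h2 hn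
    rw [h] at h3
    norm_num at h3
    linarith
  have h2 : (n : ℝ) * ((r : ℝ) * (r + 3)) ≤ 8 * (2 * (r + 2) * (r + 1)) := by
    have h3 : (0 : ℝ) < 2 * (r + 2) * (r + 1) := by positivity
    rw [← mul_div_assoc, div_le_iff₀ h3] at h1
    exact h1
  have h3 : ((n * r * (r + 3) : ℕ) : ℝ) ≤ ((16 * (r + 2) * (r + 1) : ℕ) : ℝ) := by
    push_cast
    linarith
  exact_mod_cast h3

theorem num_small_lt {n r : ℕ} (hr : 3 ≤ r) (h : n * r * (r + 3) ≤ 16 * (r + 2) * (r + 1)) :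
    n * (2 * 2) < (r + 2) ^ 3 := by
  by_contra hcon
  push Not at hcon
  have h1 : (r + 2) ^ 3 * (r * (r + 3)) ≤ n * (2 * 2) * (r * (r + 3)) := Nat.mul_le_mul_right _ hcon
  have h2 : n * (2 * 2) * (r * (r + 3)) = 4 * (n * r * (r + 3)) := by ring
  have h3 : (r + 2) ^ 3 * (r * (r + 3)) ≤ 64 * ((r + 2) * (r + 1)) := by
    rw [h2] at h1
    nlinarith
  have h4 : (r + 2) ^ 2 * (r * (r + 3)) ≤ 64 * (r + 1) := by
    have h5 : 0 < r + 2 := by omega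
    apply Nat.le_of_mul_le_mul_left _ h5
    calc (r + 2) * ((r + 2) ^ 2 * (r * (r + 3))) = (r + 2) ^ 3 * (r * (r + 3)) := by ring
      _ ≤ 64 * ((r + 2) * (r + 1)) := h3
      _ = (r + 2) * (64 * (r + 1)) := by ring
  have h5 : 25 ≤ (r + 2) ^ 2 := by nlinarith
  have h6 : 3 * (r + 3) ≤ r * (r + 3) := Nat.mul_le_mul_right _ hr
  have h7 : 25 * (3 * (r + 3)) ≤ (r + 2) ^ 2 * (r * (r + 3)) := Nat.mul_le_mul h5 h6
  omega

theorem num_small_sl {n r g : ℕ} (hr : 3 ≤ r) (h : n * r * (r + 3) ≤ 16 * (r + 2) * (r + 1)) (hg : n * (2 * 2) = g)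
    (hsl : g = (r + 1) * (r * (r + 2))) : r = 3 := by
  by_contra hne
  have hr4 : 4 ≤ r := by omega
  have h1 : g * (r * (r + 3)) = 4 * (n * r * (r + 3)) := by
    rw [← hg]
    ring
  have h2 : (r + 1) * (r * (r + 2)) * (r * (r + 3)) ≤ 64 * ((r + 2) * (r + 1)) := by
    rw [← hsl, h1]
    nlinarith
  have h3 : r * r * (r + 3) ≤ 64 := by
    have h4 : 0 < (r + 1) * (r + 2) := by positivity
    apply Nat.le_of_mul_le_mul_left _ h4
    calc (r + 1) * (r + 2) * (r * r * (r + 3)) = (r + 1) * (r * (r + 2)) * (r * (r + 3)) := by ring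
      _ ≤ 64 * ((r + 2) * (r + 1)) := h2
      _ = (r + 1) * (r + 2) * 64 := by ring
  have h4 : 16 ≤ r * r := Nat.mul_le_mul hr4 hr4
  have h5 : 7 ≤ r + 3 := by omega
  have h6 : 16 * 7 ≤ r * r * (r + 3) := Nat.mul_le_mul h4 h5
  omega

/-! ### Recognition -/

section Rec

variable {G : Type u} [Group G] [Finite G]

/-- A simple group of order sixty is `PSL(2, 5)`. -/
theorem iso_of_sixty [IsSimpleGroup G] (h : Nat.card G = 60) :
    Nonempty (G ≃* Matrix.ProjectiveSpecialLinearGroup (Fin 2) (ZMod 5)) := by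
  haveI : Fact (Nat.Prime 5) := ⟨by norm_num⟩
  obtain ⟨e₁⟩ := Cfsg.Agent.S0494.result h
  haveI : IsSimpleGroup (Matrix.ProjectiveSpecialLinearGroup (Fin 2) (ZMod 5)) :=
    Matrix.ProjectiveSpecialLinearGroup.rank_two_simple (by
      rw [Nat.card_eq_fintype_card, ZMod.card]
      norm_num)
  have hc : Nat.card (Matrix.ProjectiveSpecialLinearGroup (Fin 2) (ZMod 5)) = 60 := by
    have h1 := Cfsg.Agent.Lib.Classical.SL2.Tori.card_psl (F := ZMod 5)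
    rw [ZMod.card] at h1
    have h2 : Nat.gcd 2 (5 - 1) = 2 := by norm_num
    rw [h2] at h1
    omega
  obtain ⟨e₂⟩ := Cfsg.Agent.S0494.result hc
  exact ⟨e₁.trans e₂.symm⟩

variable {p : ℕ} [hp : Fact p.Prime] {P E : Subgroup G} {u : G} {χp : G → ℂ}

/-- Application of the theorem on perfect groups with a large Sylow subgroup. -/
theorem Sys.recog (S : Sys p P E u χp) (hN : ∀ K : Subgroup G, K.Normal → K ≠ ⊥ → p ∣ Nat.card K) (h5 : 5 ≤ p)
    (hbig : Nat.card G < p ^ 3) :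
    Nonempty (G ≃* Matrix.ProjectiveSpecialLinearGroup (Fin 2) (ZMod p)) ∨
      ∃ q : ℕ, p = q + 1 ∧ Nat.card G = q * ((q - 1) * (q + 1)) := by
  classical
  obtain ⟨Q, hQ⟩ := S.exists_sylow
  have hperf : commutator G = ⊤ := by
    rcases S.simple hN (K := commutator G) inferInstance with h | h
    · exfalso
      apply S.not_normal
      constructor
      intro n hn g
      have h1 : g * n * g⁻¹ * n⁻¹ ∈ commutator G :=
        Subgroup.commutator_mem_commutator (H₁ := ⊤) (H₂ := ⊤) (g₁ := g) (g₂ := n) trivial trivial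
      rw [h, Subgroup.mem_bot] at h1
      have h3 : g * n * g⁻¹ = n := mul_inv_eq_one.mp h1
      rw [h3]
      exact hn
    · exact h
  have hP : ¬ (Q : Subgroup G).Normal := by
    rw [hQ]
    exact S.not_normal
  have h2 : ∀ N : Subgroup G, N.Normal → Nat.card N ≠ 2 := by
    intro N hN' hc
    rcases S.simple hN hN' with h | h
    · rw [h, Subgroup.card_bot] at hc
      omega
    · rw [h, Subgroup.card_top] at hc
      have h3 := S.dvd_card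
      rw [hc] at h3
      have h4 := Nat.le_of_dvd (by norm_num) h3
      omega
  rcases Cfsg.Agent.S4701.result hperf p S.dvd_card hbig Q hP h2 with ⟨F, iF, iF2, hF, -, ⟨e⟩⟩ | ⟨m, F, iF, iF2, hF, hp2, -, ⟨e⟩⟩
  · left
    letI : Fintype (ZMod p) := ZMod.fintype p
    obtain ⟨e₂⟩ := Cfsg.Agent.Lib.Small.PSL2Rec.nonempty_pslCongr_of_card (K := F) (L := ZMod p) (by rw [hF, ZMod.card])
    exact ⟨e.trans e₂⟩
  · right
    refine ⟨2 ^ m, hp2, ?_⟩
    rw [Nat.card_congr e.toEquiv, Cfsg.Agent.Lib.Classical.SL2Sylow.card_SL2, hF]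

end Rec

end Cfsg.Agent.Lib.Perm7.Core
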