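import Cfsg.Agent.Lib.Perm7.Even4

/-!
# The case `|E|` even: the end of the proof
-/

set_option autoImplicit false
set_option linter.unusedSectionVars false
set_option linter.style.haveILetI false

namespace Cfsg.Agent.Lib.Perm7.Core

open scoped BigOperators ComplexConjugate
open Cfsg Module Cfsg.Agent.Lib.Char.Induced Cfsg.Agent.Lib.Char.Ortho Cfsg.Agent.Lib.Char.Linear
open Cfsg.Agent.Lib.Char.Basic Cfsg.Agent.Lib.Char.GenLattice Cfsg.Agent.Lib.Char.Complete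
open Cfsg.Agent.Lib.Char.IndRep Cfsg.Agent.Lib.Perm7.Exc Cfsg.Agent.Lib.Perm7.Label
open Cfsg.Agent.Lib.Perm7.Frob Cfsg.Agent.Lib.Perm7.Integ
open Cfsg.Agent.Lib.CharDeep.BrauerDeg
open Cfsg.Agent.Lib.ExcP.Gram Cfsg.Agent.Lib.ExcP.Inst
open Cfsg.Agent.Lib.ModRep.ThGram
open Cfsg.Agent.Lib.Char.Degree
open Cfsg.Agent.Lib.Char.ClassProd

universe u

/-- A quadratic character. -/
theorem exists_quad {A : Type u} [Group A] [Finite A] (hcomm : ∀ a b : A, a * b = b * a) {z : A} (hz : z ≠ 1)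
    (hz2 : z * z = 1) : ∃ ε : A →* ℂˣ, ε ≠ 1 ∧ ∀ x, ε x * ε x = 1 := by
  let B : Subgroup A :=
    { carrier := {x | ∃ a : A, x = a * a}
      mul_mem' := by
        rintro _ _ ⟨a, rfl⟩ ⟨b, rfl⟩
        refine ⟨a * b, ?_⟩
        calc a * a * (b * b) = a * (a * b) * b := by group
          _ = a * (b * a) * b := by rw [hcomm a b]
          _ = a * b * (a * b) := by group
      one_mem' := ⟨1, by simp⟩
      inv_mem' := by
        rintro _ ⟨a, rfl⟩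
        refine ⟨a⁻¹, by group⟩ }
  have hBne : B ≠ ⊤ := by
    intro h
    let f : A → A := fun b => b * b
    have hf : Function.Surjective f := by
      intro x
      have h1 : x ∈ B := by rw [h]; trivial
      obtain ⟨b, rfl⟩ := h1
      exact ⟨b, rfl⟩
    have hfi := Finite.injective_iff_surjective.mpr hf
    have h2 : f z = f 1 := by
      simp [f, hz2]
    exact hz (hfi h2)
  obtain ⟨ε, hε, hεB⟩ := exists_hom_trivial_on hcomm B hBne
  refine ⟨ε, hε, fun x => ?_⟩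
  rw [← map_mul]
  exact hεB _ ⟨x, rfl⟩

theorem tu_inv {G : Type u} [Group G] {E : Subgroup G} {v : G} (h : TIE E v) (hv2 : v * v = 1)
    (hinv : ∀ x : E, v * x * v⁻¹ = (x : G)⁻¹) (θ : E →* ℂˣ) : tu h θ = θ⁻¹ := by
  ext x
  have h1 : cu h x = x⁻¹ := by
    apply Subtype.ext
    rw [coe_cu]
    have hv : v⁻¹ = v := inv_eq_of_mul_eq_one_left hv2
    have h2 := hinv x
    rw [hv] at h2 ⊢
    simpa using h2
  rw [tu_apply, h1, map_inv]
  rfl

variable {G : Type u} [Group G] [Fintype G] {p : ℕ} [hp : Fact p.Prime] {P E : Subgroup G} [Fintype P] [Fintype E]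
  {u : G} {χp : G → ℂ}

section Main

variable (S : Sys p P E u χp) {z : G} (hzE : z ∈ E) (hz1 : z ≠ 1) (hz2 : z * z = 1)
include S hzE hz1 hz2

theorem Sys.Phi_gam_real (θ : E →* ℂˣ) {R : ℝ}
    (h : classInner (fun c => (classProdCount z z c : ℂ)) (rst χp θ) = kap G z * (R : ℂ)) :
    classInner (fun c => (classProdCount z z c : ℂ)) (gam θ) = kap G z * ((R - 1 - 1 / p : ℝ) : ℂ) := by
  rw [S.Phi_gam hzE hz1 hz2, h]
  push_cast
  ring

theorem Sys.Phi_rst_irr' {θ : E →* ℂˣ} (hθ : θ ≠ 1) (hne : θ ≠ tu S.hT θ) :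
    classInner (fun c => (classProdCount z z c : ℂ)) (rst χp θ) = kap G z * ((4 / ((p : ℝ) + 1) : ℝ) : ℂ) := by
  rw [S.Phi_rst_irr hzE hz1 hz2 hθ hne]
  push_cast
  rfl

theorem Sys.Phi_rst_fix' {θ : E →* ℂˣ} {ξ₁ ξ₂ : G → ℂ} {a₁ a₂ : ℤ} {D₁ D₂ : ℕ} (hξ₁ : IsIrrCharacter G ξ₁)
    (hξ₂ : IsIrrCharacter G ξ₂) (ha₁ : a₁ = 1 ∨ a₁ = -1) (ha₂ : a₂ = 1 ∨ a₂ = -1) (hD₁ : ξ₁ 1 = D₁) (hD₂ : ξ₂ 1 = D₂)
    (hdec : rst χp θ = (a₁ : ℂ) • ξ₁ + (a₂ : ℂ) • ξ₂)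
    (hval : ∀ x : E, x ≠ 1 → ξ₁ x = (a₁ : ℂ) * ((θ x : ℂˣ) : ℂ) ∧ ξ₂ x = (a₂ : ℂ) * ((θ x : ℂˣ) : ℂ)) :
    classInner (fun c => (classProdCount z z c : ℂ)) (rst χp θ) =
      kap G z * (((a₁ : ℝ) / D₁ + (a₂ : ℝ) / D₂ : ℝ) : ℂ) := by
  rw [S.Phi_rst_fix hzE hz1 hz2 hξ₁ hξ₂ ha₁ ha₂ hD₁ hD₂ hdec hval]
  push_cast
  rfl

/-- The hypothesis of the counting theorem. -/
theorem Sys.hsupp_all (h3 : 3 ≤ p) (θ : E →* ℂˣ) (hθ : θ ≠ 1) :
    ∃ x : E, x ≠ 1 ∧ classProdCount z z (x : G) ≠ 0 ∧ θ x ≠ 1 := by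
  classical
  apply supp_of_ne z
  have hp3 : (3 : ℝ) ≤ p := by exact_mod_cast h3
  have hR : ∃ R : ℝ, R ≤ 1 ∧ classInner (fun c => (classProdCount z z c : ℂ)) (rst χp θ) = kap G z * (R : ℂ) := by
    by_cases hne : θ = tu S.hT θ
    · obtain ⟨ξ₁, ξ₂, a₁, a₂, D₁, D₂, hξ₁, hξ₂, -, ha₁, ha₂, hD₁, hD₂, h2₁, h2₂, hdec, -, hval⟩ :=
        S.fixed_dec hθ hne.symm
      exact ⟨_, by linarith [ratio_le ha₁ h2₁, ratio_le ha₂ h2₂],
        S.Phi_rst_fix' hzE hz1 hz2 hξ₁ hξ₂ ha₁ ha₂ hD₁ hD₂ hdec hval⟩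
    · refine ⟨_, ?_, S.Phi_rst_irr' hzE hz1 hz2 hθ hne⟩
      rw [div_le_one (by positivity)]
      linarith
  obtain ⟨R, hR1, hR⟩ := hR
  rw [S.Phi_gam_real hzE hz1 hz2 θ hR]
  apply mul_ne_zero (kap_ne z)
  apply Complex.ofReal_ne_zero.mpr
  have h4 : (0 : ℝ) < 1 / p := by positivity
  linarith

/-- The main equation. -/
theorem Sys.key (hNc : Nat.card (Subgroup.normalizer (E : Set G)) = 2 * Nat.card E)
    (hc : ∀ x : E, x ≠ 1 → classProdCount z z (x : G) = Nat.card E) {θ : E →* ℂˣ} (hθ : θ ≠ 1) {R : ℝ}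
    (hR : classInner (fun c => (classProdCount z z c : ℂ)) (rst χp θ) = kap G z * (R : ℂ)) :
    (Nat.card {x : G // IsConj z x} : ℝ) * (1 + 1 / p - R) = 2 * Nat.card E * Nat.card E := by
  have h1 := S.Phi_gam_real hzE hz1 hz2 θ hR
  rw [Phi_gam_of_count z hθ hc] at h1
  have h2 := S.card_class_z hzE hz1 hz2 hNc
  have hn0 : (Nat.card {x : G // IsConj z x} : ℂ) ≠ 0 := by
    apply Nat.cast_ne_zero.mpr
    haveI : Nonempty {x : G // IsConj z x} := ⟨⟨z, IsConj.refl z⟩⟩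
    exact Nat.card_pos.ne'
  have he0 : (Nat.card E : ℂ) ≠ 0 := Nat.cast_ne_zero.mpr Nat.card_pos.ne'
  have h3 : kap G z = (Nat.card {x : G // IsConj z x} : ℂ) / (2 * Nat.card E) := by
    unfold kap
    rw [← h2]
    push_cast
    field_simp
  rw [h3] at h1
  obtain ⟨y, hy⟩ : ∃ y : ℝ, y = R - 1 - 1 / p := ⟨_, rfl⟩
  rw [← hy] at h1
  have h5 : (Nat.card {x : G // IsConj z x} : ℂ) * (y : ℂ) = -(2 * Nat.card E * Nat.card E) := by
    have h6 : (Nat.card {x : G // IsConj z x} : ℂ) / (2 * Nat.card E) * (y : ℂ) * (2 * Nat.card E) =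
        (Nat.card {x : G // IsConj z x} : ℂ) * (y : ℂ) := by
      field_simp
    rw [← h6, ← h1]
    ring
  have h6 : (((Nat.card {x : G // IsConj z x} : ℝ) * y : ℝ) : ℂ) = ((-(2 * Nat.card E * Nat.card E) : ℝ) : ℂ) := by
    push_cast
    exact h5
  have h7 := Complex.ofReal_injective h6
  rw [hy] at h7
  linarith

end Main

section Fam

variable [Fintype (Cn P)] [Fintype (Nn P)] [Fintype (DD P p)] [Fintype (IrrCharacter G)]
  [Fintype (IrrCharacter (Cn P))] {M : Ideal AlgInt}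

/-- The exceptional family has more than one member. -/
theorem Sys.Y_ne_one (S : Sys p P E u χp) (F : Fam M P p (trv (Cn P))) (d₀ : DD P p) {θ : E →* ℂˣ} {ξ₁ ξ₂ : G → ℂ}
    (hξ₁ : IsIrrCharacter G ξ₁) (hξ₂ : IsIrrCharacter G ξ₂) (hdec : rst χp θ = ξ₁ + ξ₂)
    (h₁ : ¬ ∀ g, ξ₁ g = ξ₁ 1) (h₂ : ¬ ∀ g, ξ₂ g = ξ₂ 1) : F.Y.card ≠ 1 := by
  classical
  intro hcard
  obtain ⟨y, hy⟩ := Finset.card_eq_one.mp hcard
  have hν : ∀ d, F.ν d = y := fun d => by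
    have h1 := (F.hY (F.ν d)).mpr ⟨d, rfl⟩
    rw [hy] at h1
    simpa using h1
  have hconst : ∀ (ξ : IrrCharacter G) (d : DD P p), nn (tw d.1 (trv (Cn P) : Cn P → ℂ)) (rs P (ξ : G → ℂ)) =
      nn (tw d₀.1 (trv (Cn P) : Cn P → ℂ)) (rs P (ξ : G → ℂ)) := by
    intro ξ d
    have h1 := mult_rel F d ξ
    have h2 := mult_rel F d₀ ξ
    rw [hν d] at h1
    rw [hν d₀] at h2
    have h3 : (nn (tw d.1 (trv (Cn P) : Cn P → ℂ)) (rs P (ξ : G → ℂ)) : ℤ) =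
      nn (tw d₀.1 (trv (Cn P) : Cn P → ℂ)) (rs P (ξ : G → ℂ)) := by
      rw [h1, h2]
    exact_mod_cast h3
  have hc₁ := isCharacter_of_isIrrCharacter hξ₁
  have hc₂ := isCharacter_of_isIrrCharacter hξ₂
  have hsum : nn (tw d₀.1 (trv (Cn P) : Cn P → ℂ)) (rs P ξ₁) + nn (tw d₀.1 (trv (Cn P) : Cn P → ℂ)) (rs P ξ₂) = 1 := by
    have hchar : IsCharacter G (rst χp θ) := by
      rw [hdec]
      exact isCharacter_add hc₁ hc₂
    have ht := isCharacter_of_isIrrCharacter (isIrr_tw d₀.1 (trv (Cn P)).2)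
    have h3 := S.nn_tw_rst θ d₀
    have h4 := nn_cast ht (isChar_rs (P := P) hchar)
    rw [h3] at h4
    have h5 : rs P (rst χp θ) = rs P ξ₁ + rs P ξ₂ := by
      rw [hdec]
      rfl
    rw [h5, classInner_add_right, ← nn_cast ht (isChar_rs (P := P) hc₁), ← nn_cast ht (isChar_rs (P := P) hc₂)] at h4
    exact_mod_cast h4.symm
  have hzero : ∀ {ξ : G → ℂ} (hξ : IsIrrCharacter G ξ), nn (tw d₀.1 (trv (Cn P) : Cn P → ℂ)) (rs P ξ) = 0 →
      ∀ g, ξ g = ξ 1 := by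
    intro ξ hξ h0
    apply S.ker_of_P (isCharacter_of_isIrrCharacter hξ)
    by_contra hcon
    push Not at hcon
    obtain ⟨θ₁, d, hθ₁, hd⟩ := exists_pair S.hPc S.hp2 (isCharacter_of_isIrrCharacter hξ) hcon
    have h1 : θ₁ = trv (Cn P) := by
      have h0' : ∀ c, (θ₁ : Cn P → ℂ) c = (θ₁ : Cn P → ℂ) 1 := fun c => hθ₁ c (S.mem_P_of_Cn c)
      have h2 := classInner_self_of_isIrr θ₁.2
      have h3 := charDegree_natCast (isCharacter_of_isIrrCharacter θ₁.2)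
      rw [classInner_def] at h2
      simp only [h0', Finset.sum_const, Finset.card_univ, ← Nat.card_eq_fintype_card, nsmul_eq_mul] at h2
      have hC : (Nat.card (Cn P) : ℂ) ≠ 0 := Nat.cast_ne_zero.mpr Nat.card_pos.ne'
      rw [inv_mul_cancel_left₀ hC, ← h3, Complex.conj_natCast] at h2
      have h4 : charDegree (θ₁ : Cn P → ℂ) * charDegree (θ₁ : Cn P → ℂ) = 1 := by exact_mod_cast h2
      have h5 : charDegree (θ₁ : Cn P → ℂ) = 1 := Nat.eq_one_of_mul_eq_one_left h4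
      rw [h5] at h3
      apply Subtype.ext
      funext c
      rw [h0' c, ← h3]
      simp
    rw [h1] at hd
    apply hd
    have h2 := hconst ⟨ξ, hξ⟩ d
    simp only at h2
    rw [h2]
    exact h0
  have h3 : nn (tw d₀.1 (trv (Cn P) : Cn P → ℂ)) (rs P ξ₁) = 0 ∨ nn (tw d₀.1 (trv (Cn P) : Cn P → ℂ)) (rs P ξ₂) = 0 := by
    omega
  rcases h3 with h3 | h3
  · exact h₁ (hzero hξ₁ h3)
  · exact h₂ (hzero hξ₂ h3)

end Fam

/-- The final statement of the even case. -/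
theorem Sys.even_final (S : Sys p P E u χp) (heven : ¬ Odd (Nat.card E))
    (hNc : Nat.card (Subgroup.normalizer (E : Set G)) = 2 * Nat.card E)
    (hN : ∀ K : Subgroup G, K.Normal → K ≠ ⊥ → p ∣ Nat.card K) (h5 : 5 ≤ p) :
    Nonempty (G ≃* Matrix.ProjectiveSpecialLinearGroup (Fin 2) (ZMod p)) := by
  classical
  haveI : Fact (Nat.Prime 2) := ⟨Nat.prime_two⟩
  have h2E : 2 ∣ Nat.card E := even_iff_two_dvd.mp (Nat.not_odd_iff_even.mp heven)
  obtain ⟨z, hzE, hz1, hz2⟩ : ∃ z : G, z ∈ E ∧ z ≠ 1 ∧ z * z = 1 := by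
    obtain ⟨z', hz'⟩ := exists_prime_orderOf_dvd_card' 2 h2E
    refine ⟨z', z'.2, ?_, ?_⟩
    · intro h
      have h1 : z' = 1 := Subtype.ext h
      rw [h1, orderOf_one] at hz'
      norm_num at hz'
    · have h1 := pow_orderOf_eq_one z'
      rw [hz', sq] at h1
      exact congrArg Subtype.val h1
  obtain ⟨u₀, hu₀N, hu₀E, hu₀2, hinv, hc⟩ := S.count_eq hzE hz1 hz2 (S.hsupp_all hzE hz1 hz2 (by omega))
  have S₀ := S.change_u hu₀N hu₀E
  have htu : ∀ θ, tu S₀.hT θ = θ⁻¹ := tu_inv S₀.hT hu₀2 hinv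
  have hz'1 : (⟨z, hzE⟩ : E) ≠ 1 := fun h => hz1 (congrArg Subtype.val h)
  obtain ⟨ε, hε, hε2⟩ := exists_quad S.hT.hcomm hz'1 (Subtype.ext hz2)
  have hεfix : tu S₀.hT ε = ε := by
    rw [htu]
    ext x
    rw [MonoidHom.inv_apply]
    have h1 := hε2 x
    rw [inv_eq_of_mul_eq_one_left h1]
  obtain ⟨ξ₁, ξ₂, a₁, a₂, D₁, D₂, hξ₁, hξ₂, -, ha₁, ha₂, hD₁, hD₂, h2₁, h2₂, hdec, hsum, hval⟩ := S₀.fixed_dec hε hεfix
  have hRε := S₀.Phi_rst_fix' hzE hz1 hz2 hξ₁ hξ₂ ha₁ ha₂ hD₁ hD₂ hdec hval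
  have hkε := S₀.key hzE hz1 hz2 hNc hc hε hRε
  have hcl := S.card_class_z hzE hz1 hz2 hNc
  have hnpos : 0 < Nat.card {x : G // IsConj z x} := by
    haveI : Nonempty {x : G // IsConj z x} := ⟨⟨z, IsConj.refl z⟩⟩
    exact Nat.card_pos
  have he1 : Nat.card E ≠ 1 := fun h => S.hE1 (Subgroup.card_eq_one.mp h)
  have hepos : 0 < Nat.card E := Nat.card_pos
  by_cases he2 : Nat.card E = 2
  · obtain ⟨r, rfl⟩ : ∃ r, p = r + 2 := ⟨p - 2, by omega⟩
    rw [he2] at hkε hcl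
    have hnum := num_small (by omega) ha₁ ha₂ h2₁ h2₂ hsum hkε
    have hlt := num_small_lt (by omega) hnum
    rcases S.recog hN h5 (by rw [← hcl]; exact hlt) with h | ⟨q, hq, hsl⟩
    · exact h
    · obtain rfl : q = r + 1 := by omega
      have h3 := num_small_sl (by omega) hnum hcl (by rw [hsl]; simp only [Nat.add_sub_cancel])
      subst h3
      have hcard : Nat.card G = 60 := by
        rw [hsl]
      haveI : Nontrivial G := ⟨⟨z, 1, hz1⟩⟩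
      haveI : IsSimpleGroup G := ⟨fun H hH => S.simple hN hH⟩
      exact iso_of_sixty hcard
  · have he3 : 3 ≤ Nat.card E := by omega
    haveI := S.hcyc
    obtain ⟨c, hgen⟩ := IsCyclic.exists_generator (α := E)
    have hcc : c * c ≠ 1 := by
      intro h
      have h1 : orderOf c = Nat.card E := orderOf_eq_card_of_forall_mem_zpowers hgen
      have h2 : orderOf c ∣ 2 := orderOf_dvd_of_pow_eq_one (by rw [sq]; exact h)
      have h3 := Nat.le_of_dvd (by norm_num) h2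
      omega
    obtain ⟨θ₁, hθ₁⟩ := exists_hom_ne_one S.hT.hcomm hcc
    have hθ₁ne : θ₁ ≠ 1 := by
      intro h
      rw [h] at hθ₁
      simp at hθ₁
    have hθ₁tu : θ₁ ≠ tu S₀.hT θ₁ := by
      rw [htu]
      intro h
      apply hθ₁
      rw [map_mul]
      have h1 := DFunLike.congr_fun h c
      rw [MonoidHom.inv_apply] at h1
      nth_rewrite 1 [h1]
      simp
    have hR1 := S₀.Phi_rst_irr' hzE hz1 hz2 hθ₁ne hθ₁tu
    have hk1 := S₀.key hzE hz1 hz2 hNc hc hθ₁ne hR1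
    have hp0 : (0 : ℝ) < p := by exact_mod_cast hp.out.pos
    have hnpos' : (0 : ℝ) < Nat.card {x : G // IsConj z x} := by exact_mod_cast hnpos
    have hRR : (a₁ : ℝ) / D₁ + (a₂ : ℝ) / D₂ = 4 / ((p : ℝ) + 1) := by
      have h1 := hkε.trans hk1.symm
      have h2 := mul_left_cancel₀ hnpos'.ne' h1
      linarith
    have hRpos : (0 : ℝ) < 4 / ((p : ℝ) + 1) := by positivity
    obtain ⟨rfl, rfl, -⟩ : a₁ = 1 ∧ a₂ = 1 ∧ D₁ + D₂ = p + 1 := by
      rcases signs ha₁ ha₂ h2₁ h2₂ hsum with h | h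
      · exact h
      · rw [hRR] at h
        linarith
    have hdec' : rst χp ε = ξ₁ + ξ₂ := by
      rw [hdec]
      simp
    have hbad : ∀ {ξ : G → ℂ} {D : ℕ}, ξ 1 = D → 2 ≤ D → ξ z = ((ε ⟨z, hzE⟩ : ℂˣ) : ℂ) → ¬ ∀ g, ξ g = ξ 1 := by
      intro ξ D hD hD2 hξz hall
      have h1 := S₀.val_z_sq hzE hz1 hz2 ε
      rw [← hξz, hall z, hD] at h1
      have h2 : D * D = 1 := by exact_mod_cast h1
      have h3 : 2 * 2 ≤ D * D := Nat.mul_le_mul hD2 hD2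
      omega
    obtain ⟨hv₁, hv₂⟩ := hval ⟨z, hzE⟩ hz'1
    have hb₁ := hbad hD₁ h2₁ (by simpa using hv₁)
    have hb₂ := hbad hD₂ h2₂ (by simpa using hv₂)
    letI : Fintype (Cn P) := Fintype.ofFinite _
    letI : Fintype (Nn P) := Fintype.ofFinite _
    haveI := finite_irrCharacter (G := G)
    letI := Fintype.ofFinite (IrrCharacter G)
    haveI := finite_irrCharacter (G := Cn P)
    letI := Fintype.ofFinite (IrrCharacter (Cn P))
    haveI := finite_DD (p := p) (P := P) S.hPc S.hp2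
    letI : Fintype (DD P p) := Fintype.ofFinite _
    have hpp : p.Prime := hp.out
    obtain ⟨M, hM⟩ := Cfsg.Agent.Lib.BlockH.Basic.exists_isPModular hpp
    obtain ⟨F⟩ := exists_fam hM S.hPc S.hp2 (trv (Cn P)) trv_ker
    have hne : Nonempty (DD P p) := by
      apply Nat.card_pos_iff.mp ?_ |>.1
      rw [card_DD S.hPc S.hp2]
      omega
    obtain ⟨d⟩ := hne
    have hY1 := S₀.Y_ne_one F d hξ₁ hξ₂ hdec' hb₁ hb₂
    have hYe := F.hYe
    rw [S.fam_e F d] at hYe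
    generalize F.Y.card = t at hYe hY1
    obtain ⟨q, rfl⟩ : ∃ q, p = q + 1 := ⟨p - 1, by omega⟩
    simp only [Nat.add_sub_cancel] at hYe
    have ht0 : t ≠ 0 := by
      intro h
      rw [h] at hYe
      omega
    have ht2 : 2 ≤ t := by omega
    have hnum := num_big hepos hk1 hYe
    have hlt := num_big_lt hnum hYe hcl ht2
    rcases S.recog hN h5 hlt with h | ⟨q', hq', hsl⟩
    · exact h
    · exfalso
      obtain rfl : q' = q := by omega
      exact num_big_sl hnum hYe hcl ht2 he3 (by omega) hsl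

end Cfsg.Agent.Lib.Perm7.Core
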